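import Mathlib

/-!
# Tameness and surjectivity of the trace
-/

set_option autoImplicit false
noncomputable section

universe u v

open Finset

namespace Groth.Agent.TameTrace

variable {B : Type u} [CommRing B] {Γ : Type v} [Group Γ] [MulSemiringAction Γ B]

theorem card_inertia_ne_zero [Fintype Γ] {b : B} (hb : ∑ γ : Γ, γ • b = 1) (P : Ideal B) (hP : P.IsPrime) :
    ((Nat.card (P.inertia Γ) : ℕ) : B ⧸ P) ≠ 0 := by
  classical
  intro h0
  haveI : Nontrivial (B ⧸ P) := Ideal.Quotient.nontrivial_iff.2 hP.ne_top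
  set H := P.inertia Γ
  let π : Γ → Quotient (QuotientGroup.rightRel H) := fun γ => Quotient.mk _ γ
  have hcong : ∀ x γ : Γ, π x = π γ → Ideal.Quotient.mk P (x • b) = Ideal.Quotient.mk P (γ • b) := by
    intro x γ hxy
    have hmem : γ * x⁻¹ ∈ H := QuotientGroup.rightRel_apply.1 (Quotient.exact hxy)
    rw [eq_comm, Ideal.Quotient.eq]
    have := hmem (x • b)
    rwa [← mul_smul, inv_mul_cancel_right] at this
  have hcard : ∀ g : Γ, (univ.filter fun γ => π γ = π g).card = Nat.card H := by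
    intro g
    rw [Nat.card_eq_fintype_card]
    refine card_bij' (fun γ _ => (⟨γ * g⁻¹, ?_⟩ : H)) (fun h _ => (h : Γ) * g) ?_ ?_ ?_ ?_
    · rename_i γ hγ
      exact QuotientGroup.rightRel_apply.1 (Quotient.exact (mem_filter.1 hγ).2.symm)
    · intro γ _; exact mem_univ _
    · intro h _
      refine mem_filter.2 ⟨mem_univ _, Quotient.sound (QuotientGroup.rightRel_apply.2 ?_)⟩
      rw [mul_inv_rev, ← mul_assoc, mul_inv_cancel, one_mul]
      exact H.inv_mem h.2
    · intro γ _; simp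
    · intro h _; ext; simp
  have h1 : (1 : B ⧸ P) = 0 := by
    rw [← map_one (Ideal.Quotient.mk P), ← hb, map_sum, ← sum_fiberwise univ π]
    refine sum_eq_zero fun q _ => ?_
    induction q using Quotient.inductionOn with
    | h g =>
      rw [sum_congr rfl fun x hx => hcong x g (mem_filter.1 hx).2, sum_const,
        show (univ.filter fun γ => π γ = Quotient.mk _ g).card = Nat.card H from hcard g, nsmul_eq_mul, h0, zero_mul]
  exact one_ne_zero h1

theorem sum_smul_fixed [Fintype Γ] (b : B) (δ : Γ) : δ • ∑ γ : Γ, γ • b = ∑ γ : Γ, γ • b := by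
  rw [Finset.smul_sum, ← Equiv.sum_comp (Equiv.mulLeft δ) fun γ : Γ => γ • b]
  exact Finset.sum_congr rfl fun γ _ => (mul_smul δ γ b).symm

theorem exists_trace_not_mem [Fintype Γ] (P : Ideal B) (hP : P.IsMaximal)
    (h : ((Nat.card (P.inertia Γ) : ℕ) : B ⧸ P) ≠ 0) : ∃ b : B, (∑ γ : Γ, γ • b) ∉ P := by
  classical
  haveI := hP
  letI : Field (B ⧸ P) := Ideal.Quotient.field P
  let D : Subgroup Γ :=
    { carrier := {γ | ∀ y : B, y ∈ P ↔ γ • y ∈ P}
      one_mem' := fun y => by rw [one_smul]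
      mul_mem' := fun {a b} ha hb y => by rw [mul_smul]; exact (hb y).trans (ha _)
      inv_mem' := fun {a} ha y => by rw [ha (a⁻¹ • y), smul_inv_smul] }
  have hQ : ∀ γ, γ ∉ D → ∃ e : B, γ • e ∈ P ∧ e - 1 ∈ P := fun γ hγ => by
    have hmax : (P.comap (MulSemiringAction.toRingHom Γ B γ)).IsMaximal :=
      Ideal.comap_isMaximal_of_surjective _ (fun y => ⟨γ⁻¹ • y, smul_inv_smul γ y⟩)
    have hne : P.comap (MulSemiringAction.toRingHom Γ B γ) ≠ P := fun e => hγ fun y => by
      conv_lhs => rw [← e]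
      exact Iff.rfl
    obtain ⟨a, ha, c, hc, hac⟩ := Submodule.mem_sup.1
      ((eq_top_iff.1 (hmax.coprime_of_ne hP hne)) (trivial : (1 : B) ∈ (⊤ : Ideal B)))
    have e : a - 1 = -c := by rw [show (1 : B) = a + c from hac.symm]; abel
    exact ⟨a, ha, e ▸ neg_mem hc⟩
  choose e he he1 using hQ
  let g : Γ → B := fun γ => if h : γ ∈ D then 1 else e γ h
  let d : B := ∏ γ : Γ, g γ
  have hd1 : d - 1 ∈ P := by
    rw [← Ideal.Quotient.eq, map_one, map_prod]
    refine prod_eq_one fun γ _ => ?_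
    by_cases hγ : γ ∈ D
    · rw [show g γ = 1 from dif_pos hγ, map_one]
    · rw [show g γ = e γ hγ from dif_neg hγ, ← map_one (Ideal.Quotient.mk P), Ideal.Quotient.eq]
      exact he1 γ hγ
  have hd0 : ∀ γ, γ ∉ D → γ • d ∈ P := fun γ hγ => by
    rw [Finset.smul_prod', ← Ideal.Quotient.eq_zero_iff_mem, map_prod]
    refine prod_eq_zero (mem_univ γ) (Ideal.Quotient.eq_zero_iff_mem.2 ?_)
    rw [show g γ = e γ hγ from dif_neg hγ]
    exact he γ hγ
  let f : Γ → (B →* B ⧸ P) := fun γ =>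
    (Ideal.Quotient.mk P).toMonoidHom.comp (MulSemiringAction.toRingHom Γ B γ).toMonoidHom
  set S := univ.filter fun γ : Γ => γ ∈ D
  by_contra hall
  push Not at hall
  have hlin : ∑ φ ∈ S.image f, ((S.filter fun γ => f γ = φ).card : B ⧸ P) • (φ : B → B ⧸ P) = 0 := by
    funext x
    rw [Finset.sum_apply]
    show ∑ φ ∈ S.image f, ((S.filter fun γ => f γ = φ).card : B ⧸ P) * φ x = 0
    calc ∑ φ ∈ S.image f, ((S.filter fun γ => f γ = φ).card : B ⧸ P) * φ x = ∑ γ ∈ S, f γ x := by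
          rw [← sum_fiberwise_of_maps_to (g := f) (fun γ hγ => mem_image_of_mem f hγ) (fun γ => f γ x)]
          refine sum_congr rfl fun φ _ => ?_
          refine Eq.symm (Eq.trans (sum_congr rfl (g := fun _ => φ x) fun γ hγ => DFunLike.congr_fun (mem_filter.1 hγ).2 x) ?_)
          rw [sum_const, nsmul_eq_mul]
      _ = Ideal.Quotient.mk P (∑ γ : Γ, γ • (d * x)) := by
          rw [map_sum, sum_filter]
          refine sum_congr rfl fun γ _ => ?_
          split_ifs with hγ
          · show Ideal.Quotient.mk P (γ • x) = _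
            rw [smul_mul', map_mul, show Ideal.Quotient.mk P (γ • d) = 1 from by
              rw [← map_one (Ideal.Quotient.mk P), Ideal.Quotient.eq, ← smul_one γ, ← smul_sub]
              exact (hγ _).1 hd1, one_mul]
          · rw [eq_comm, Ideal.Quotient.eq_zero_iff_mem, smul_mul']
            exact P.mul_mem_right _ (hd0 γ hγ)
      _ = 0 := Ideal.Quotient.eq_zero_iff_mem.2 (hall _)
  have h1S : (1 : Γ) ∈ S := mem_filter.2 ⟨mem_univ _, D.one_mem⟩
  have hzero := linearIndependent_iff'.1 (linearIndependent_monoidHom B (B ⧸ P)) _ _ hlin (f 1) (mem_image_of_mem f h1S)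
  refine h ?_
  rw [Nat.card_eq_fintype_card, ← hzero]
  refine congrArg _ (Eq.symm ?_)
  refine card_bij' (fun γ hγ => (⟨γ, ?_⟩ : P.inertia Γ)) (fun γ _ => (γ : Γ)) ?_ ?_ (fun _ _ => rfl) (fun _ _ => rfl)
  · intro x
    have := DFunLike.congr_fun (mem_filter.1 hγ).2 x
    rw [show f 1 x = Ideal.Quotient.mk P x from congrArg (Ideal.Quotient.mk P) (one_smul Γ x)] at this
    exact Ideal.Quotient.eq.1 this
  · intro γ _; exact mem_univ _
  · intro γ _
    refine mem_filter.2 ⟨mem_filter.2 ⟨mem_univ _, fun y => ?_⟩, MonoidHom.ext fun x => ?_⟩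
    · have hy := γ.2 y
      exact ⟨fun hy' => by simpa using add_mem hy hy', fun hy' => by simpa using sub_mem hy' hy⟩
    · refine (Ideal.Quotient.eq.2 (γ.2 x)).trans ?_
      exact (congrArg (Ideal.Quotient.mk P) (one_smul Γ x)).symm

theorem tame_iff [Fintype Γ] :
    (∃ b : B, ∑ γ : Γ, γ • b = 1) ↔ ∀ P : Ideal B, P.IsPrime → ((Nat.card (P.inertia Γ) : ℕ) : B ⧸ P) ≠ 0 := by
  refine ⟨fun ⟨b, hb⟩ P hP => card_inertia_ne_zero hb P hP, fun h => ?_⟩
  let A := FixedPoints.subring B Γ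
  haveI : Algebra.IsInvariant A B Γ := ⟨fun b hb => ⟨⟨b, hb⟩, rfl⟩⟩
  haveI : Algebra.IsIntegral A B := Algebra.IsInvariant.isIntegral A B Γ
  let tr : B → A := fun b => ⟨∑ γ : Γ, γ • b, fun δ => sum_smul_fixed b δ⟩
  let J : Ideal A :=
    { carrier := Set.range tr
      add_mem' := by
        rintro _ _ ⟨b, rfl⟩ ⟨c, rfl⟩
        exact ⟨b + c, Subtype.ext (by simp [tr, smul_add, sum_add_distrib])⟩
      zero_mem' := ⟨0, Subtype.ext (by simp [tr])⟩
      smul_mem' := by
        rintro a _ ⟨b, rfl⟩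
        exact ⟨(a : B) * b, Subtype.ext (by
          show ∑ γ : Γ, γ • ((a : B) * b) = (a : B) * ∑ γ : Γ, γ • b
          rw [mul_sum]
          exact sum_congr rfl fun γ _ => by rw [smul_mul', a.2 γ])⟩ }
  by_cases hJ : J = ⊤
  · obtain ⟨b, hb⟩ := (Ideal.eq_top_iff_one J).1 hJ
    exact ⟨b, congrArg Subtype.val hb⟩
  · obtain ⟨m, hm, hJm⟩ := Ideal.exists_le_maximal J hJ
    haveI := hm
    obtain ⟨P, hP, hPm⟩ := Ideal.exists_ideal_over_maximal_of_isIntegral (S := B) m (by
      rw [(RingHom.injective_iff_ker_eq_bot (algebraMap A B)).1 Subtype.val_injective]; exact bot_le)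
    obtain ⟨b, hb⟩ := exists_trace_not_mem P hP (h P hP.isPrime)
    exact absurd (show tr b ∈ P.comap (algebraMap A B) from hPm ▸ hJm ⟨b, rfl⟩) hb

end Groth.Agent.TameTrace
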